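import Groth.Agent.Curves.K786.NodeLoc
import Groth.Agent.EtCore.K301.NodeFib
import Groth.Agent.Models.H74.CohLin
import Groth.Agent.VarietyA.SmoothLocusSch
import Groth.Agent.CurvesC.DualInvNodal
import Groth.Prelude.Def_Pi1

/-!
# The genus of a nodal curve and of its normalization

`Z` proper with at worst nodal singularities over an algebraically closed field, of dimension at most one,
`ν : Z' → Z` finite with `Z'` normal, an isomorphism over the dense open `U` whose preimage is dense. Then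
`g(Z) + #π₀(Z') = g(Z') + #{nodes} + #π₀(Z)`.
-/

set_option autoImplicit false
universe u
open CategoryTheory CategoryTheory.Limits AlgebraicGeometry Opposite TopologicalSpace Module IsLocalRing

namespace K786.NodeFibre

open Groth.Agent Groth.Agent.Models.H74 EvIdeal
open Groth.Agent.Sga7.H598.SNDef

theorem res_res {X : Scheme.{u}} {U V W : X.Opens} (i : V ⟶ U) (j : W ⟶ V) (l : W ⟶ U) (s : Γ(X, U)) :
    X.presheaf.map j.op (X.presheaf.map i.op s) = X.presheaf.map l.op s := by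
  rw [← ConcreteCategory.comp_apply, ← Functor.map_comp]
  rfl

theorem mem_primeIdealOf_iff {X : Scheme.{u}} {V : X.Opens} (hV : IsAffineOpen V) (z : X) (hz : z ∈ V)
    (f : Γ(X, V)) : f ∈ (hV.primeIdealOf ⟨z, hz⟩).asIdeal ↔ z ∉ X.basicOpen f := by
  have h1 : hV.fromSpec ⁻¹ᵁ X.basicOpen f = PrimeSpectrum.basicOpen f := hV.fromSpec_preimage_basicOpen f
  have h2 : hV.fromSpec (hV.primeIdealOf ⟨z, hz⟩) = z := hV.fromSpec_primeIdealOf ⟨z, hz⟩
  have h3 : (hV.primeIdealOf ⟨z, hz⟩ : Spec Γ(X, V)) ∈ hV.fromSpec ⁻¹ᵁ X.basicOpen f ↔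
      z ∈ X.basicOpen f := by
    change hV.fromSpec (hV.primeIdealOf ⟨z, hz⟩) ∈ X.basicOpen f ↔ _
    rw [h2]
  rw [← h3, h1, ← not_iff_not, not_not]
  exact Iff.rfl

theorem evId_eq {X : Scheme.{u}} {V : X.Opens} (hV : IsAffineOpen V) (z : X) (hz : z ∈ V) :
    evId V z hz = (hV.primeIdealOf ⟨z, hz⟩).asIdeal := by
  ext f
  rw [mem_primeIdealOf_iff hV z hz, mem_evId_iff]

/-- Denominators at the points over which `ν` is an isomorphism. -/
theorem exists_denom {Z Z' : Scheme.{u}} (ν : Z' ⟶ Z) [IsAffineHom ν] (U : Z.Opens) [IsIso (ν ∣_ U)] (V : Z.Opens)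
    (hV : IsAffineOpen V) (x : Z) (hxV : x ∈ V) (hxU : x ∈ U) (b : Γ(Z', ν ⁻¹ᵁ V)) :
    ∃ s : Γ(Z, V), s ∉ (hV.primeIdealOf ⟨x, hxV⟩).asIdeal ∧ ∃ a : Γ(Z, V), ν.app V a = ν.app V s * b := by
  have hW : IsAffineOpen (ν ⁻¹ᵁ V) := hV.preimage ν
  obtain ⟨s, hs, hxs⟩ := hV.exists_basicOpen_le (V := U) ⟨x, hxU⟩ hxV
  have hsV : Z.basicOpen s ≤ V := Z.basicOpen_le s
  have hiso := K301.NodeFib.isIso_app_of_le ν U (Z.basicOpen s) hs
  have hbij : Function.Bijective (ν.app (Z.basicOpen s)) := ConcreteCategory.bijective_of_isIso _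
  let i : ν ⁻¹ᵁ (Z.basicOpen s) ≤ ν ⁻¹ᵁ V := fun x hx => hsV hx
  obtain ⟨c, hc⟩ := hbij.2 ((Z'.presheaf.map (homOfLE i).op).hom b)
  have hloc := hV.isLocalization_basicOpen s
  obtain ⟨⟨a, ⟨_, n, rfl⟩⟩, ha⟩ := IsLocalization.surj (M := Submonoid.powers s) c
  have hnat : ∀ t : Γ(Z, V), (Z'.presheaf.map (homOfLE i).op).hom (ν.app V t) =
      ν.app (Z.basicOpen s) ((Z.presheaf.map (homOfLE hsV).op).hom t) := fun t =>
    (ConcreteCategory.congr_hom (ν.naturality (homOfLE hsV).op) t).symm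
  have ha' : c * (Z.presheaf.map (homOfLE hsV).op).hom (s ^ n) =
    (Z.presheaf.map (homOfLE hsV).op).hom a := ha
  have h4 := congrArg (ν.app (Z.basicOpen s)).hom ha'
  rw [map_mul] at h4
  -- equality on the preimage of the basic open
  have h5 : (Z'.presheaf.map (homOfLE i).op).hom (ν.app V a) =
      (Z'.presheaf.map (homOfLE i).op).hom (ν.app V (s ^ n) * b) := by
    rw [map_mul, hnat, hnat]
    refine h4.symm.trans ?_
    rw [mul_comm]
    congr 1
  have hpre : ν ⁻¹ᵁ Z.basicOpen s = Z'.basicOpen (ν.app V s) := Scheme.preimage_basicOpen ν s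
  have hle : Z'.basicOpen (ν.app V s) ≤ ν ⁻¹ᵁ Z.basicOpen s := hpre.ge
  have h6 := congrArg (Z'.presheaf.map (homOfLE hle).op).hom h5
  have h7 : ∀ t : Γ(Z', ν ⁻¹ᵁ V), (Z'.presheaf.map (homOfLE hle).op).hom
      ((Z'.presheaf.map (homOfLE i).op).hom t) =
      (Z'.presheaf.map (homOfLE (Z'.basicOpen_le (ν.app V s))).op).hom t := fun t =>
    res_res (homOfLE i) (homOfLE hle) (homOfLE (Z'.basicOpen_le (ν.app V s))) t
  rw [h7, h7] at h6
  have hloc' := hW.isLocalization_basicOpen (ν.app V s)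
  obtain ⟨⟨_, m, rfl⟩, hm⟩ := (IsLocalization.eq_iff_exists (Submonoid.powers (ν.app V s))
    Γ(Z', Z'.basicOpen (ν.app V s))).1 h6
  refine ⟨s ^ (m + n), ?_, s ^ m * a, ?_⟩
  · intro h
    have := (hV.primeIdealOf ⟨x, hxV⟩).isPrime.mem_of_pow_mem _ h
    rw [mem_primeIdealOf_iff] at this
    exact this hxs
  · rw [pow_add, map_mul, map_mul, mul_assoc, map_pow]
    exact hm

section Main

variable {k : Type u} [Field k] [IsAlgClosed k] {Z Z' : Scheme.{u}} (f : Z ⟶ Spec (CommRingCat.of k))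
  (ν : Z' ⟶ Z)

/-- The local rings at the points of `Z'` over `Z ∖ U` are discrete valuation rings. -/
theorem dvr_stalk [LocallyOfFiniteType f] [QuasiCompact f] [IsFinite ν] (hZ' : Pi1.IsNormalScheme Z')
    (hdim : topologicalKrullDim Z ≤ 1)
    (U : Z.Opens) (hU' : Dense ((ν ⁻¹ᵁ U : Z'.Opens) : Set Z')) (z' : Z') (hz' : z' ∉ ν ⁻¹ᵁ U) :
    ∃ (_ : IsDomain (Z'.presheaf.stalk z')), IsDiscreteValuationRing (Z'.presheaf.stalk z') := by
  have hN' : IsNoetherian Z' := Models.H58.NodalGlueGeo.isNoetherian (ν ≫ f)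
  obtain ⟨hd, hic⟩ := hZ' z'
  have h3 : ringKrullDim (Z'.presheaf.stalk z') ≤ 1 :=
    (CurvesB.DimPts.ringKrullDim_stalk_le z').trans
      ((EtpbcA.CharPDim.dim_le_of_isIntegralHom ν).trans hdim)
  have h1 : IsRegularLocalRing (Z'.presheaf.stalk z') := Groth.Agent.S2344.isRegular_of_normal _ h3
  have h2 := Models.H58.NodalGlueGeo.one_le_ringKrullDim_stalk (ν ⁻¹ᵁ U) hU' z' hz'
  exact ⟨inferInstance,
    VarietyA.SmoothReg.isDiscreteValuationRing_of_isRegularLocalRing _ (le_antisymm h3 h2)⟩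

/-- A regular local ring is seminormal. -/
theorem sn_of_regular (R : Type u) [CommRing R] [IsRegularLocalRing R] (h : ringKrullDim R ≤ 1) : SN R := by
  have hd : IsDomain R := CalgA.RegBasic.isDomain _
  by_cases h1 : (1 : WithBot ℕ∞) ≤ ringKrullDim R
  · have := VarietyA.SmoothReg.isDiscreteValuationRing_of_isRegularLocalRing R (le_antisymm h h1)
    exact SN.of_isIntegrallyClosed R
  · have h4 : IsField R := by
      by_contra hcon
      exact h1 (K301.NodeFib.one_le_of_not_isField hcon)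
    let _ := h4.toField
    exact SN.of_isIntegrallyClosed R

end Main

section Curve

variable (k : Type u) [Field k] [IsAlgClosed k] {Z Z' : Scheme.{u}} [Z.Over (Spec (CommRingCat.of k))]
  [LocallyOfFiniteType (Z ↘ Spec (CommRingCat.of k))] [QuasiCompact (Z ↘ Spec (CommRingCat.of k))]

theorem isRegular_of_smooth (z : Z)
    (h : ∃ U : Z.Opens, z ∈ U ∧ Smooth (U.ι ≫ (Z ↘ Spec (CommRingCat.of k)))) :
    IsRegularLocalRing (Z.presheaf.stalk z) := by
  obtain ⟨V, hV, h1⟩ := h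
  have : LocallyOfFinitePresentation (Z ↘ Spec (CommRingCat.of k)) :=
    LocallyOfFinitePresentation.iff_locallyOfFiniteType.2 inferInstance
  rw [← VarietyA.SmoothReg.mem_smoothLocus_iff_of_perfectField (Z ↘ Spec (CommRingCat.of k)) z]
  exact VarietyA.SmoothLocusSch.le_smoothLocus _ V hV

theorem not_isRegular_of_isNode (hdim : topologicalKrullDim Z ≤ 1) (z : Z) (hz : Curv2.IsNode k Z z) :
    ¬ IsRegularLocalRing (Z.presheaf.stalk z) := by
  intro hreg
  have hN : IsNoetherian Z := Models.H58.NodalGlueGeo.isNoetherian (Z ↘ Spec (CommRingCat.of k))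
  have hd : IsDomain (Z.presheaf.stalk z) := CalgA.RegBasic.isDomain _
  refine K301.NodeFibAlg.not_isRegularLocalRing ((CurvesB.DimPts.ringKrullDim_stalk_le z).trans hdim) ?_ hreg
  have h := ((CurvesB.Node.isNode_iff k Z z).1 hz).2.not_principal 1 le_rfl
  rwa [pow_one] at h

/-- The closed points of an at worst nodal curve are seminormal. -/
theorem sn_stalk (hdim : topologicalKrullDim Z ≤ 1) (hZ : Curv2.AtWorstNodal k Z) (z : Z)
    (hz : IsClosed ({z} : Set Z)) : SN (Z.presheaf.stalk z) := by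
  rcases hZ z hz with h | h
  · have := isRegular_of_smooth k z h
    exact sn_of_regular _ ((CurvesB.DimPts.ringKrullDim_stalk_le z).trans hdim)
  · exact Sga7.H598.SNNode.sn_of_isNode k Z z h

variable (ν : Z' ⟶ Z) [IsFinite ν] (hZ' : Pi1.IsNormalScheme Z')
  (hdim : topologicalKrullDim Z ≤ 1) (hZ : Curv2.AtWorstNodal k Z)
  (U : Z.Opens) (hU : Dense (U : Set Z)) (hU' : Dense ((ν ⁻¹ᵁ U : Z'.Opens) : Set Z')) [IsIso (ν ∣_ U)]

include hZ' in
omit [LocallyOfFiniteType (Z ↘ Spec (CommRingCat.of k))] [QuasiCompact (Z ↘ Spec (CommRingCat.of k))]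
  [IsAlgClosed k] [Z.Over (Spec (CommRingCat.of k))] [IsFinite ν] in
theorem isReduced_of_isNormal : IsReduced Z' := by
  have h : ∀ x : Z', IsReduced (Z'.presheaf.stalk x) := fun x => by
    obtain ⟨hd, -⟩ := hZ' x
    infer_instance
  exact isReduced_of_isReduced_stalk Z'

/-- the points of a scheme over an affine open and the primes -/
theorem exists_point_of_prime {V : Z.Opens} (hV : IsAffineOpen V) (z : Z) (hzV : z ∈ V)
    (q : Ideal Γ(Z', ν ⁻¹ᵁ V)) (hq : q.IsPrime)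
    (hqp : q.comap (ν.app V).hom = (hV.primeIdealOf ⟨z, hzV⟩).asIdeal) :
    ∃ (x : Z') (hx : x ∈ ν ⁻¹ᵁ V), ((hV.preimage ν).primeIdealOf ⟨x, hx⟩).asIdeal = q ∧ ν x = z := by
  obtain ⟨⟨x, hx⟩, hxq⟩ := Sga67.BlowReg.exists_primeIdealOf_eq (hV.preimage ν) ⟨q, hq⟩
  have hxq' : ((hV.preimage ν).primeIdealOf ⟨x, hx⟩).asIdeal = q := congrArg PrimeSpectrum.asIdeal hxq
  refine ⟨x, hx, hxq', ?_⟩
  have h1 := IsAffineOpen.comap_primeIdealOf_appLE V hV (ν ⁻¹ᵁ V) (hV.preimage ν) le_rfl hx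
  rw [Scheme.Hom.appLE_eq_app] at h1
  have h2 := congr_arg PrimeSpectrum.asIdeal h1
  have h3 : (hV.primeIdealOf ⟨ν x, hx⟩).asIdeal = (hV.primeIdealOf ⟨z, hzV⟩).asIdeal := by
    rw [← hqp, ← hxq']
    exact h2.symm
  have h4 := PrimeSpectrum.ext h3
  have h5 := congrArg hV.fromSpec h4
  rwa [hV.fromSpec_primeIdealOf, hV.fromSpec_primeIdealOf] at h5

theorem comap_prime {V : Z.Opens} (hV : IsAffineOpen V) (z : Z) (hzV : z ∈ V) (x : Z')
    (hx : x ∈ ν ⁻¹ᵁ V) (hxz : ν x = z) :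
    ((hV.preimage ν).primeIdealOf ⟨x, hx⟩).asIdeal.comap (ν.app V).hom =
      (hV.primeIdealOf ⟨z, hzV⟩).asIdeal := by
  have h1 := IsAffineOpen.comap_primeIdealOf_appLE V hV (ν ⁻¹ᵁ V) (hV.preimage ν) le_rfl hx
  rw [Scheme.Hom.appLE_eq_app] at h1
  have h2 := congr_arg PrimeSpectrum.asIdeal h1
  refine h2.trans ?_
  subst hxz
  rfl

omit [LocallyOfFiniteType (Z ↘ Spec (CommRingCat.of k))] [QuasiCompact (Z ↘ Spec (CommRingCat.of k))]
  [IsAlgClosed k] [Z.Over (Spec (CommRingCat.of k))] in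
include hdim hU in
/-- The proper generizations of a point outside `U` lie in `U`: denominators. -/
theorem good [IsNoetherian Z] {V : Z.Opens} (hV : IsAffineOpen V) (z : Z) (hzV : z ∈ V)
    (P : Ideal Γ(Z, V)) (hP : P.IsPrime) (hle : P ≤ (hV.primeIdealOf ⟨z, hzV⟩).asIdeal)
    (hne : P ≠ (hV.primeIdealOf ⟨z, hzV⟩).asIdeal) (b : Γ(Z', ν ⁻¹ᵁ V)) :
    ∃ s : Γ(Z, V), s ∉ P ∧ ∃ a : Γ(Z, V), ν.app V a = ν.app V s * b := by
  obtain ⟨⟨y, hy⟩, hyP⟩ := Sga67.BlowReg.exists_primeIdealOf_eq hV ⟨P, hP⟩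
  have hyP' : (hV.primeIdealOf ⟨y, hy⟩).asIdeal = P := congrArg PrimeSpectrum.asIdeal hyP
  have hyU : y ∈ U := by
    by_contra hyU
    have hc := Models.H58.NodalGlueGeo.isClosed_of_notMem hdim U hU y hyU
    have hsp : hV.primeIdealOf ⟨y, hy⟩ ⤳ hV.primeIdealOf ⟨z, hzV⟩ := by
      rw [← PrimeSpectrum.le_iff_specializes]
      rw [← PrimeSpectrum.asIdeal_le_asIdeal, hyP']
      exact hle
    have h1 := hsp.map hV.fromSpec.continuous
    rw [hV.fromSpec_primeIdealOf, hV.fromSpec_primeIdealOf] at h1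
    have h2 : z = y := by
      have := h1.mem_closed hc rfl
      exact this
    apply hne
    subst h2
    exact hyP'.symm
  obtain ⟨s, hs, a, ha⟩ := exists_denom ν U V hV y hy hyU b
  rw [hyP'] at hs
  exact ⟨s, hs, a, ha⟩

include hZ' hdim hZ hU in
/-- The functions vanishing at all the points over `Z ∖ U` come from `Z`. -/
theorem exists_app_eq (V : Z.Opens) (hV : IsAffineOpen V) (b : Γ(Z', ν ⁻¹ᵁ V))
    (hb : ∀ (y : Z') (hy : ν y ∈ V), ν y ∉ U → b ∈ evId (ν ⁻¹ᵁ V) y hy) :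
    ∃ a : Γ(Z, V), ν.app V a = b := by
  have hN : IsNoetherian Z := Models.H58.NodalGlueGeo.isNoetherian (Z ↘ Spec (CommRingCat.of k))
  have hZr : IsReduced Z := Groth.Agent.CurvesC.DualInvNodal.isReduced_of_atWorstNodal hZ
  have hZ'r : IsReduced Z' := isReduced_of_isNormal hZ'
  have hdom : IsDominant ν := Models.H58.NodalGlueGeo.isDominant ν U hU
  have hsd := IsSchemeTheoreticallyDominant.of_isDominant ν
  let _ : Algebra Γ(Z, V) Γ(Z', ν ⁻¹ᵁ V) := (ν.app V).hom.toAlgebra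
  have _ : Module.Finite Γ(Z, V) Γ(Z', ν ⁻¹ᵁ V) := ν.finite_app V hV
  let I : Ideal Γ(Z, V) :=
    { carrier := {s | ∃ a : Γ(Z, V), ν.app V a = ν.app V s * b}
      zero_mem' := ⟨0, by rw [map_zero, zero_mul]⟩
      add_mem' := by
        rintro s t ⟨a, ha⟩ ⟨c, hc⟩
        exact ⟨a + c, by rw [map_add, map_add, ha, hc, add_mul]⟩
      smul_mem' := by
        rintro s t ⟨a, ha⟩
        exact ⟨s * a, by rw [map_mul, ha, smul_eq_mul, map_mul, mul_assoc]⟩ }
  have hI : I = ⊤ := by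
    by_contra hcon
    obtain ⟨p, hp, hIp⟩ := Ideal.exists_le_maximal I hcon
    obtain ⟨⟨z, hzV⟩, hzp⟩ := Sga67.BlowReg.exists_primeIdealOf_eq hV ⟨p, hp.isPrime⟩
    have hzp' : (hV.primeIdealOf ⟨z, hzV⟩).asIdeal = p := congrArg PrimeSpectrum.asIdeal hzp
    by_cases hzU : z ∈ U
    · obtain ⟨s, hs, a, ha⟩ := exists_denom ν U V hV z hzV hzU b
      rw [hzp'] at hs
      exact hs (hIp ⟨a, ha⟩)
    · have hzc := Models.H58.NodalGlueGeo.isClosed_of_notMem hdim U hU z hzU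
      have hSN := sn_stalk k hdim hZ z hzc
      let _ : Algebra Γ(Z, V) (Z.presheaf.stalk z) := Z.presheaf.algebra_section_stalk ⟨z, hzV⟩
      have hloc : IsLocalization.AtPrime (Z.presheaf.stalk z) (hV.primeIdealOf ⟨z, hzV⟩).asIdeal :=
        hV.isLocalization_stalk ⟨z, hzV⟩
      subst hzp'
      have hSN' : SN (Localization.AtPrime (hV.primeIdealOf ⟨z, hzV⟩).asIdeal) :=
        hSN.of_ringEquiv (IsLocalization.algEquiv (hV.primeIdealOf ⟨z, hzV⟩).asIdeal.primeCompl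
          (Z.presheaf.stalk z) (Localization.AtPrime (hV.primeIdealOf ⟨z, hzV⟩).asIdeal)).toRingEquiv
      obtain ⟨a, s, hs, h⟩ := K786.NodeLoc.rad_of_SN (hV.primeIdealOf ⟨z, hzV⟩).asIdeal (ν.app_injective V) hSN'
        (fun P hP hle hne c => good ν hdim U hU hV z hzV P hP hle hne c) b (by
          intro q hq hqp
          obtain ⟨x, hx, hxq, hxz⟩ := exists_point_of_prime ν hV z hzV q hq hqp
          have h1 := hb x hx (by rw [hxz]; exact hzU)
          rw [evId_eq (hV.preimage ν) x hx, hxq] at h1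
          exact h1)
      exact hs (hIp ⟨a, h.symm⟩)
  obtain ⟨a, ha⟩ : (1 : Γ(Z, V)) ∈ I := by rw [hI]; trivial
  exact ⟨a, by rw [ha, map_one, one_mul]⟩

include hZ' hdim hZ hU hU' in
/-- The fibre over a point outside `U`: one point if it is regular, two if it is a node. -/
theorem card_fibre (z : Z) (hzU : z ∉ U) :
    (IsRegularLocalRing (Z.presheaf.stalk z) → (ν ⁻¹' {z}).ncard = 1) ∧
    (Curv2.IsNode k Z z → (ν ⁻¹' {z}).ncard = 2) := by
  have hN : IsNoetherian Z := Models.H58.NodalGlueGeo.isNoetherian (Z ↘ Spec (CommRingCat.of k))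
  have hZr : IsReduced Z := Groth.Agent.CurvesC.DualInvNodal.isReduced_of_atWorstNodal hZ
  have hZ'r : IsReduced Z' := isReduced_of_isNormal hZ'
  have hzc := Models.H58.NodalGlueGeo.isClosed_of_notMem hdim U hU z hzU
  have hdom : IsDominant ν := Models.H58.NodalGlueGeo.isDominant ν U hU
  have hsd := IsSchemeTheoreticallyDominant.of_isDominant ν
  obtain ⟨V, hV, hzV, -⟩ := exists_isAffineOpen_mem_and_subset (U := (⊤ : Z.Opens)) (x := z) trivial
  let _ : Algebra Γ(Z, V) Γ(Z', ν ⁻¹ᵁ V) := (ν.app V).hom.toAlgebra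
  let _ : Algebra Γ(Z, V) (Z.presheaf.stalk z) := Z.presheaf.algebra_section_stalk ⟨z, hzV⟩
  let _ : Algebra k Γ(Z, V) :=
    (((Z ↘ Spec (CommRingCat.of k)).appLE ⊤ V le_top).hom.comp
      (Scheme.ΓSpecIso (CommRingCat.of k)).inv.hom).toAlgebra
  have _ : Algebra.FiniteType k Γ(Z, V) :=
    Models.H58.NodalGlueGeo.finiteType_section (Z ↘ Spec (CommRingCat.of k)) V hV
  have _ : Module.Finite Γ(Z, V) Γ(Z', ν ⁻¹ᵁ V) := ν.finite_app V hV
  have hloc : IsLocalization.AtPrime (Z.presheaf.stalk z) (hV.primeIdealOf ⟨z, hzV⟩).asIdeal :=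
    hV.isLocalization_stalk ⟨z, hzV⟩
  have hpmax := Dix.ClosedAlg.isMaximal_primeIdealOf z hzc V hV hzV
  have hNA : IsNoetherianRing Γ(Z, V) := IsLocallyNoetherian.component_noetherian ⟨V, hV⟩
  have hdimz : ringKrullDim (Z.presheaf.stalk z) ≤ 1 :=
    (CurvesB.DimPts.ringKrullDim_stalk_le z).trans hdim
  have key := K786.NodeLoc.primes (A₀ := Γ(Z, V)) (B₀ := Γ(Z', ν ⁻¹ᵁ V)) (O := Z.presheaf.stalk z)
    (hV.primeIdealOf ⟨z, hzV⟩).asIdeal (ν.app_injective V)
    (fun q hqP hqp b => Models.H58.NodalGlueGeo.exists_const_mod (k := k)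
      (hV.primeIdealOf ⟨z, hzV⟩).asIdeal q hqp b)
    (fun P hP hle hne c => good ν hdim U hU hV z hzV P hP hle hne c)
    (by
      intro q hqP hqp
      obtain ⟨x, hx, rfl, hxz⟩ := exists_point_of_prime ν hV z hzV q hqP hqp
      obtain ⟨h1, h2⟩ := dvr_stalk (Z ↘ Spec (CommRingCat.of k)) ν hZ' hdim U hU' x (by
        intro h
        apply hzU
        rw [← hxz]
        exact h)
      have e := Sga67.BlowReg.stalkEquiv (hV.preimage ν) hx
      have hd := e.toMulEquiv.isDomain (B := Z'.presheaf.stalk x)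
      exact ⟨hd, _root_.IsDiscreteValuationRing.RingEquivClass.isDiscreteValuationRing e.symm⟩)
    hdimz (sn_stalk k hdim hZ z hzc)
  have hinj : ∀ (a : Z') (ha : a ∈ ν ⁻¹ᵁ V) (b : Z') (hb : b ∈ ν ⁻¹ᵁ V),
      ((hV.preimage ν).primeIdealOf ⟨a, ha⟩).asIdeal = ((hV.preimage ν).primeIdealOf ⟨b, hb⟩).asIdeal →
      a = b := by
    intro a ha b hb h
    have h5 := congrArg (hV.preimage ν).fromSpec (PrimeSpectrum.ext h)
    rwa [(hV.preimage ν).fromSpec_primeIdealOf, (hV.preimage ν).fromSpec_primeIdealOf] at h5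
  constructor
  · intro hreg
    obtain ⟨q, hq, hqp, hall⟩ := key.1 hreg
    obtain ⟨x, hx, hxq, hxz⟩ := exists_point_of_prime ν hV z hzV q hq hqp
    rw [Set.ncard_eq_one]
    refine ⟨x, ?_⟩
    ext w
    rw [Set.mem_preimage, Set.mem_singleton_iff, Set.mem_singleton_iff]
    constructor
    · intro hw
      have hwV : w ∈ ν ⁻¹ᵁ V := by
        change ν w ∈ V
        rw [hw]
        exact hzV
      exact hinj w hwV x hx ((hall _ inferInstance (comap_prime ν hV z hzV w hwV hw)).trans hxq.symm)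
    · rintro rfl
      exact hxz
  · intro hnode
    obtain ⟨q₁, q₂, hq₁, hq₂, hp₁, hp₂, hne, hall⟩ := key.2 (not_isRegular_of_isNode k hdim z hnode)
      (K301.NodeFib.gorenstein_of_isNode k Z hdim z hnode)
    obtain ⟨x, hx, hxq, hxz⟩ := exists_point_of_prime ν hV z hzV q₁ hq₁ hp₁
    obtain ⟨y, hy, hyq, hyz⟩ := exists_point_of_prime ν hV z hzV q₂ hq₂ hp₂
    rw [Set.ncard_eq_two]
    refine ⟨x, y, ?_, ?_⟩
    · rintro rfl
      exact hne (hxq.symm.trans hyq)
    · ext w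
      rw [Set.mem_preimage, Set.mem_singleton_iff, Set.mem_insert_iff, Set.mem_singleton_iff]
      constructor
      · intro hw
        have hwV : w ∈ ν ⁻¹ᵁ V := by
          change ν w ∈ V
          rw [hw]
          exact hzV
        rcases hall _ inferInstance (comap_prime ν hV z hzV w hwV hw) with h | h
        · left
          exact hinj w hwV x hx (h.trans hxq.symm)
        · right
          exact hinj w hwV y hy (h.trans hyq.symm)
      · rintro (rfl | rfl)
        · exact hxz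
        · exact hyz

end Curve

end K786.NodeFibre
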