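import Groth.Agent.Curves.K327.Koszul
import Groth.Agent.Curves.K327.TwoSec
import Groth.Agent.CurvesC.PowSurj
import Groth.Prelude.Def_SecTwist

/-!
# Castelnuovo–Mumford: multiplication of sections in dimension one, any base

`X` Noetherian of dimension at most one, `L` an invertible module generated by global sections, `F` a module with
`H^1(X, F) = 0`; then `H^0(F ⊗ L) ⊗ H^0(L) → H^0(F ⊗ L ⊗ L)` is surjective. No base field is needed.
-/

set_option autoImplicit false
universe u
open CategoryTheory CategoryTheory.Limits AlgebraicGeometry TopologicalSpace Opposite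

namespace K786.CMSurj

open Groth.Agent Groth.Agent.CohqB.HSeqMod Groth.Agent.CurvesB.SubH1 Groth.Agent.CurvesC.Gen
open Groth.Agent.Curves.K327 NefStep Koszul
open Groth.Agent.Ega2

attribute [local instance] CategoryTheory.Abelian.hasFiniteBiproducts

variable {X : Scheme.{u}} {L : X.Modules}

theorem desc_app {ι : Type} [Fintype ι] {G M : X.Modules} (p : ι → (G ⟶ M)) (U : X.Opens)
    (v : Γ((⨁ fun _ : ι => G : X.Modules), U)) :
    (biproduct.desc p).app U v = ∑ i, (p i).app U ((biproduct.π (fun _ : ι => G) i).app U v) := by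
  have h : biproduct.desc p = ∑ i, biproduct.π (fun _ : ι => G) i ≫ p i := by
    apply biproduct.hom_ext'
    intro j
    rw [biproduct.ι_desc, Preadditive.comp_sum, Finset.sum_eq_single j]
    · rw [biproduct.ι_π_self_assoc]
    · intro i _ hij
      rw [biproduct.ι_π_ne_assoc _ (Ne.symm hij), zero_comp]
    · intro h; exact absurd (Finset.mem_univ j) h
  rw [h]
  have h2 : ∀ (S : Finset ι), (∑ i ∈ S, biproduct.π (fun _ : ι => G) i ≫ p i).app U v =
      ∑ i ∈ S, (p i).app U ((biproduct.π (fun _ : ι => G) i).app U v) := by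
    classical
    intro S
    induction S using Finset.induction_on with
    | empty => rfl
    | insert a S ha ih =>
      rw [Finset.sum_insert ha, Finset.sum_insert ha, ← ih]
      rfl
  exact h2 _

theorem biproduct_ext {ι : Type} [Fintype ι] {G : X.Modules} (U : X.Opens)
    (v w : Γ((⨁ fun _ : ι => G : X.Modules), U))
    (h : ∀ i, (biproduct.π (fun _ : ι => G) i).app U v = (biproduct.π (fun _ : ι => G) i).app U w) : v = w := by
  have h1 : ∀ v : Γ((⨁ fun _ : ι => G : X.Modules), U), v =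
      ∑ i, (biproduct.ι (fun _ : ι => G) i).app U ((biproduct.π (fun _ : ι => G) i).app U v) := by
    intro v
    have h3 : biproduct.desc (fun i => biproduct.ι (fun _ : ι => G) i) = 𝟙 (⨁ fun _ : ι => G) := by
      apply biproduct.hom_ext'
      intro j
      rw [biproduct.ι_desc, Category.comp_id]
    have h4 := desc_app (fun i => biproduct.ι (fun _ : ι => G) i) U v
    rw [h3] at h4
    exact h4
  rw [h1 v, h1 w]
  exact Finset.sum_congr rfl fun i _ => by rw [h i]

variable {r : ℕ} (s : Fin r → (Coh.structureModule X ⟶ L)) (F : X.Modules)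

/-- `(g_i) ↦ ∑ g_i s_i`. -/
noncomputable def kp : (⨁ fun _ : Fin r => CohB1.tensorMod F L) ⟶ CohB1.tensorMod (CohB1.tensorMod F L) L :=
  biproduct.desc fun i => ms (s i) _

/-- the Koszul relations -/
noncomputable def kk : (⨁ fun _ : Fin r × Fin r => F) ⟶ ⨁ fun _ : Fin r => CohB1.tensorMod F L :=
  biproduct.desc fun ij => ms (s ij.2) F ≫ biproduct.ι (fun _ : Fin r => CohB1.tensorMod F L) ij.1 -
    ms (s ij.1) F ≫ biproduct.ι (fun _ : Fin r => CohB1.tensorMod F L) ij.2

theorem sum_tmul {M N : X.Modules} {U : X.Opens} {ι : Type} (S : Finset ι) (f : ι → Γ(M, U)) (n : Γ(N, U)) :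
    Tens.tmul (∑ i ∈ S, f i) n = ∑ i ∈ S, Tens.tmul (f i) n := by
  have := map_sum ((Tens.tmulHom M N U).flip n) f S
  exact this

theorem ι_comp_kk_π (i j m : Fin r) (U : X.Opens) (f : Γ(F, U)) :
    (biproduct.π (fun _ : Fin r => CohB1.tensorMod F L) m).app U
      ((kk s F).app U ((biproduct.ι (fun _ : Fin r × Fin r => F) (i, j)).app U f)) =
    (if m = i then Tens.tmul f (sec (s j) U) else 0) - (if m = j then Tens.tmul f (sec (s i) U) else 0) := by
  classical
  have h1 : biproduct.ι (fun _ : Fin r × Fin r => F) (i, j) ≫ kk s F ≫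
      biproduct.π (fun _ : Fin r => CohB1.tensorMod F L) m =
      (if m = i then ms (s j) F else 0) - (if m = j then ms (s i) F else 0) := by
    rw [kk, biproduct.ι_desc_assoc, Preadditive.sub_comp, Category.assoc, Category.assoc]
    congr 1
    · by_cases h : m = i
      · subst h; rw [if_pos rfl, biproduct.ι_π_self, Category.comp_id]
      · rw [if_neg h, biproduct.ι_π_ne _ (Ne.symm h), comp_zero]
    · by_cases h : m = j
      · subst h; rw [if_pos rfl, biproduct.ι_π_self, Category.comp_id]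
      · rw [if_neg h, biproduct.ι_π_ne _ (Ne.symm h), comp_zero]
  refine (congr(($h1).app U f)).trans ?_
  have h2 : ((if m = i then ms (s j) F else 0) - (if m = j then ms (s i) F else 0)).app U f =
      (if m = i then ms (s j) F else 0).app U f - (if m = j then ms (s i) F else 0).app U f := rfl
  refine h2.trans ?_
  congr 1
  · split_ifs with h
    · exact ms_app (s j) F U f
    · rfl
  · split_ifs with h
    · exact ms_app (s i) F U f
    · rfl

variable (hcov : ∀ x : X, ∃ i, x ∈ CohB1.genLocus L (s i))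

include hcov

theorem tmul_swap_section (i j : Fin r) (U : X.Opens) (f : Γ(F, U)) :
    Tens.tmul (Tens.tmul f (sec (s i) U)) (sec (s j) U) = Tens.tmul (Tens.tmul f (sec (s j) U)) (sec (s i) U) := by
  refine Tens.eq_of_locally_eq _ _ _ fun x hx => ?_
  obtain ⟨l, h⟩ := hcov x
  refine ⟨U ⊓ CohB1.genLocus L (s l), homOfLE inf_le_left, ⟨hx, h⟩, ?_⟩
  have hg : IsGen L (U ⊓ CohB1.genLocus L (s l)) (sec (s l) _) := (le_genLocus_iff (s l) _).mp inf_le_right
  obtain ⟨b, hb⟩ := hg.exists_eq (sec (s i) _)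
  obtain ⟨c, hc⟩ := hg.exists_eq (sec (s j) _)
  rw [Tens.tmul_res, Tens.tmul_res, Tens.tmul_res, Tens.tmul_res, map_sec, map_sec, ← hb, ← hc, Tens.tmul_smul,
    Tens.tmul_smul, Tens.smul_tmul, Tens.tmul_smul, Tens.tmul_smul, Tens.smul_tmul, smul_comm]

theorem kk_kp : kk s F ≫ kp s F = 0 := by
  apply biproduct.hom_ext'
  rintro ⟨i, j⟩
  rw [comp_zero, kk, kp, biproduct.ι_desc_assoc, Preadditive.sub_comp, Category.assoc, Category.assoc,
    biproduct.ι_desc, biproduct.ι_desc, sub_eq_zero]
  ext U f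
  change (ms (s i) _).app U ((ms (s j) F).app U f) = (ms (s j) _).app U ((ms (s i) F).app U f)
  rw [ms_app, ms_app, ms_app, ms_app]
  exact tmul_swap_section s F hcov j i U f

theorem epi_kp : Epi (kp s F) := by
  refine PerfB.ModExact.epi_of_locally_surjective _ fun U y x hx => ?_
  obtain ⟨i, h⟩ := hcov x
  have hg : IsGen L (U ⊓ CohB1.genLocus L (s i)) (sec (s i) _) := (le_genLocus_iff (s i) _).mp inf_le_right
  obtain ⟨g, hgy⟩ := TensGen.exists_eq_tmul (F := CohB1.tensorMod F L) (show Fdesc.LocGen.IsGen (sec (s i) _) from hg)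
    ((CohB1.tensorMod (CohB1.tensorMod F L) L).presheaf.map (homOfLE (inf_le_left : U ⊓ CohB1.genLocus L (s i) ≤ U)).op y)
  refine ⟨U ⊓ CohB1.genLocus L (s i), inf_le_left, ⟨hx, h⟩,
    (biproduct.ι (fun _ : Fin r => CohB1.tensorMod F L) i).app _ g, ?_⟩
  rw [hgy]
  have h2 : biproduct.ι (fun _ : Fin r => CohB1.tensorMod F L) i ≫ kp s F = ms (s i) _ := biproduct.ι_desc _ _
  refine (congr(($h2).app _ g)).trans ?_
  exact ms_app (s i) _ _ g

theorem exists_kk {U : X.Opens} (v : Γ((⨁ fun _ : Fin r => CohB1.tensorMod F L : X.Modules), U))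
    (hv : (kp s F).app U v = 0) (x : X) (hx : x ∈ U) :
    ∃ (V : X.Opens) (i : V ≤ U) (_ : x ∈ V) (f : Γ((⨁ fun _ : Fin r × Fin r => F : X.Modules), V)),
      (kk s F).app V f = (⨁ fun _ : Fin r => CohB1.tensorMod F L : X.Modules).presheaf.map (homOfLE i).op v := by
  classical
  obtain ⟨l, h⟩ := hcov x
  have hle : U ⊓ CohB1.genLocus L (s l) ≤ U := inf_le_left
  have hg : IsGen L (U ⊓ CohB1.genLocus L (s l)) (sec (s l) _) := (le_genLocus_iff (s l) _).mp inf_le_right
  set w := (⨁ fun _ : Fin r => CohB1.tensorMod F L : X.Modules).presheaf.map (homOfLE hle).op v with hw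
  have hw0 : (kp s F).app _ w = 0 := by rw [hw, ← Tens.app_res, hv, map_zero]
  have hf : ∀ i, ∃ f : Γ(F, U ⊓ CohB1.genLocus L (s l)),
      (biproduct.π (fun _ : Fin r => CohB1.tensorMod F L) i).app _ w = Tens.tmul f (sec (s l) _) := fun i =>
    TensGen.exists_eq_tmul (F := F) (show Fdesc.LocGen.IsGen (sec (s l) _) from hg) _
  choose f hf using hf
  -- the relation
  have hrel : ∑ i, Tens.tmul (f i) (sec (s i) (U ⊓ CohB1.genLocus L (s l))) = 0 := by
    apply TensGen.tmul_gen_eq_zero (show Fdesc.LocGen.IsGen (sec (s l) _) from hg)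
    rw [← hw0]
    refine Eq.trans ?_ (desc_app (fun i => ms (s i) (CohB1.tensorMod F L)) _ w).symm
    refine (sum_tmul _ _ _).trans ?_
    refine Finset.sum_congr rfl fun i _ => ?_
    rw [hf i, ms_app]
    exact tmul_swap_section s F hcov i l _ (f i)
  refine ⟨U ⊓ CohB1.genLocus L (s l), hle, ⟨hx, h⟩,
    ∑ i, (biproduct.ι (fun _ : Fin r × Fin r => F) (i, l)).app _ (f i), ?_⟩
  rw [← hw]
  apply biproduct_ext
  intro m
  rw [map_sum, map_sum, Finset.sum_congr rfl (fun i _ => ι_comp_kk_π s F i l m _ (f i)),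
    Finset.sum_sub_distrib, Finset.sum_ite_eq, if_pos (Finset.mem_univ m), hf m]
  by_cases hml : m = l
  · subst hml
    simp only [if_true]
    rw [hrel, sub_zero]
  · simp only [if_neg hml]
    rw [Finset.sum_const_zero, sub_zero]

/-- Sections of `F ⊗ L ⊗ L` are `∑ g_i s_i` if `H^1(F) = 0`. -/
theorem kp_surjective [IsNoetherian X] (hdim : topologicalKrullDim X ≤ 1)
    (h1 : Subsingleton (Coh.HH X F 1)) : Function.Surjective ((kp s F).app ⊤) := by
  have hep := epi_kp s F hcov
  have hkk : Epi (kernel.lift (kp s F) (kk s F) (kk_kp s F hcov)) := by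
    refine PerfB.ModExact.epi_of_locally_surjective _ fun U y x hx => ?_
    have h0 : (kp s F).app U ((kernel.ι (kp s F)).app U y) = 0 := by
      have := kernel.condition (kp s F)
      exact congr(($this).app U y)
    obtain ⟨V, i, hxV, f, hf⟩ := exists_kk s F hcov _ h0 x hx
    refine ⟨V, i, hxV, f, ?_⟩
    apply Smoothlim.ModKer.app_injective_of_mono (kernel.ι (kp s F)) V
    have h2 : kernel.lift (kp s F) (kk s F) (kk_kp s F hcov) ≫ kernel.ι _ = kk s F := kernel.lift_ι _ _ _
    refine (congr(($h2).app V f)).trans (hf.trans ?_)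
    rw [Tens.app_res]
  have h1' : Subsingleton (Coh.HH X (⨁ fun _ : Fin r × Fin r => F) 1) :=
    CurvesC.PowSurj.subsingleton_biproduct F 1 h1
  have h2 := hmap_one_surjective_of_epi hdim (kernel.lift (kp s F) (kk s F) (kk_kp s F hcov))
  have h3 : Subsingleton (Coh.HH X (kernel (kp s F)) 1) := @Function.Surjective.subsingleton _ _ _ h1' h2
  exact app_surjective_of_H1 (VarietyA.StalkCrit.shortExact_kernel (kp s F)) h3

theorem exists_sum [IsNoetherian X] (hdim : topologicalKrullDim X ≤ 1)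
    (h1 : Subsingleton (Coh.HH X F 1)) (y : Γ(CohB1.tensorMod (CohB1.tensorMod F L) L, ⊤)) :
    ∃ g : Fin r → Γ(CohB1.tensorMod F L, ⊤), y = ∑ i, Tens.tmul (g i) (sec (s i) ⊤) := by
  obtain ⟨v, rfl⟩ := kp_surjective s F hcov hdim h1 y
  refine ⟨fun i => (biproduct.π (fun _ : Fin r => CohB1.tensorMod F L) i).app ⊤ v, ?_⟩
  refine (desc_app (fun i => ms (s i) (CohB1.tensorMod F L)) ⊤ v).trans ?_
  exact Finset.sum_congr rfl fun i _ => ms_app (s i) _ _ _

omit hcov in
theorem exists_sec (hL : PicF.IsInvertible L) (hgg : Curv2.IsGloballyGenerated L) (x : X) :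
    ∃ s : Coh.structureModule X ⟶ L, x ∈ CohB1.genLocus L s := by
  by_contra! hcon
  refine NefInd.not_vanAt hL hgg x fun s => ?_
  have h3 := TwoSec.germ_mem_of_notMem_genLocus hL (ofSec s) x (hcon _)
  rw [sec_ofSec] at h3
  have h4 : L.presheaf.map (homOfLE (le_top : (⊤ : X.Opens) ≤ ⊤)).op s = s := map_self_section L le_rfl s
  rwa [h4] at h3

omit hcov in
/-- finitely many sections generating an invertible module -/
theorem exists_fin [CompactSpace X] (hL : PicF.IsInvertible L) (hgg : Curv2.IsGloballyGenerated L) :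
    ∃ (r : ℕ) (s : Fin r → (Coh.structureModule X ⟶ L)), ∀ x : X, ∃ i, x ∈ CohB1.genLocus L (s i) := by
  classical
  choose s hs using fun x => exists_sec hL hgg x
  obtain ⟨T, hT⟩ := isCompact_univ.elim_finite_subcover (fun x : X => (CohB1.genLocus L (s x) : Set X))
    (fun x => (CohB1.genLocus L (s x)).2) (fun x _ => Set.mem_iUnion.mpr ⟨x, hs x⟩)
  refine ⟨T.card, fun i => s (T.equivFin.symm i), fun x => ?_⟩
  have hx := hT (Set.mem_univ x)
  simp only [Set.mem_iUnion] at hx
  obtain ⟨y, hy, hxy⟩ := hx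
  refine ⟨T.equivFin ⟨y, hy⟩, ?_⟩
  beta_reduce
  rw [Equiv.symm_apply_apply]
  exact hxy

omit hcov in
/-- **Multiplication of sections.** -/
theorem span_eq_top [IsNoetherian X] (hdim : topologicalKrullDim X ≤ 1) (hL : PicF.IsInvertible L)
    (hgg : Curv2.IsGloballyGenerated L) (h1 : Subsingleton (Coh.HH X F 1)) :
    Submodule.span (X.ringCatSheaf.obj.obj (Opposite.op ⊤))
        (Set.range (fun p : (CohB1.tensorMod F L).val.obj (Opposite.op ⊤) × L.val.obj (Opposite.op ⊤) =>
          SecTwist.tmul (CohB1.tensorMod F L) L ⊤ p.1 p.2)) = ⊤ := by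
  obtain ⟨r, s, hcov⟩ := exists_fin hL hgg
  rw [eq_top_iff]
  intro y _
  obtain ⟨g, hg⟩ := exists_sum s F hcov hdim h1 y
  rw [hg]
  exact Submodule.sum_mem _ fun i _ => Submodule.subset_span ⟨(g i, sec (s i) ⊤), rfl⟩

omit hcov in
/-- `H^1` of the powers. -/
theorem subsingleton_pow [IsNoetherian X] (hdim : topologicalKrullDim X ≤ 1) (hL : PicF.IsInvertible L)
    (hgg : Curv2.IsGloballyGenerated L) (m : ℕ) (hm : Subsingleton (Coh.HH X (CohB1.tensorPow L m) 1)) (n : ℕ)
    (hn : m ≤ n) : Subsingleton (Coh.HH X (CohB1.tensorPow L n) 1) := by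
  induction n, hn using Nat.le_induction with
  | base => exact hm
  | succ n _ ih => exact subsingleton_H1_tensor_right (CohB1.tensorPow L n) hdim hL hgg ih

omit hcov in
/-- Degree zero. -/
theorem span_eq_top_zero (L : X.Modules) :
    Submodule.span (X.ringCatSheaf.obj.obj (Opposite.op ⊤))
        (Set.range (fun p : (CohB1.tensorPow L 0).val.obj (Opposite.op ⊤) × L.val.obj (Opposite.op ⊤) =>
          SecTwist.tmul (CohB1.tensorPow L 0) L ⊤ p.1 p.2)) = ⊤ := by
  rw [eq_top_iff]
  intro y _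
  have hy : (Tens.lunit L).inv.app ⊤ ((Tens.lunit L).hom.app ⊤ y) = y := by
    have h := congrArg (fun q : CohB1.tensorMod (Coh.structureModule X) L ⟶ _ => q.app ⊤ y)
      (Tens.lunit L).hom_inv_id
    exact h
  exact Submodule.subset_span ⟨(Tens.sm (1 : Γ(X, ⊤)), (Tens.lunit L).hom.app ⊤ y), hy⟩

end K786.CMSurj
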