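import Groth.Agent.Curves.K319.PicCD

/-!
# Classes of degree `r ≤ g` with one section

`exists_class`: in the numerical data of a curve of genus `g` there is, for every `r ≤ g`, a class of degree `r` with
`h = 1`.
-/

set_option autoImplicit false
universe u
open CategoryTheory CategoryTheory.Limits AlgebraicGeometry TopologicalSpace

namespace K786.DegR

open Groth.Agent Groth.Agent.Grpsch.PicGrp K532.CurvePic K319 K319.PicCD

/-- Adding general points. -/
theorem exists_class {A pts : Type*} [AddCommGroup A] (C : CD A pts) (r : ℕ) (hr : r ≤ C.g) :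
    ∃ a : A, C.deg a = r ∧ C.h a = 1 := by
  induction r with
  | zero => exact ⟨0, by simp, C.h_zero⟩
  | succ r ih =>
    obtain ⟨a, hd, h1⟩ := ih (by omega)
    have h2 := C.rr a
    rw [hd, h1] at h2
    have h3 : C.h (C.K - a) ≠ 0 := by
      intro h0
      rw [h0] at h2
      push_cast at h2
      omega
    obtain ⟨x, hx, -⟩ := C.exists_good (C.K - a) (C.K - a) h3 h3
    have h4 := C.h_of_nb x _ hx
    refine ⟨a + C.p x, ?_, ?_⟩
    · rw [map_add, hd, C.deg_p]
      push_cast
      ring
    · have h5 := C.rr (a + C.p x)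
      rw [map_add, hd, C.deg_p, ← sub_sub] at h5
      push_cast at h2 h5
      omega

theorem main (k : Type u) [Field k] [IsAlgClosed k]
    (X : Scheme.{u}) [X.Over (Spec (CommRingCat.of k))] [IsIntegral X]
    [IsProper (X ↘ Spec (CommRingCat.of k))] [Smooth (X ↘ Spec (CommRingCat.of k))]
    (hdim : topologicalKrullDim ↥X = 1) (r : ℕ) (hr : r ≤ Curv2.genus k X) :
    ∃ L : X.Modules, PicF.IsInvertible L ∧ Curv2.deg k X L 1 = (r : ℤ) ∧
      Module.finrank k (Coh.HH X L 0) = 1 := by
  have hX : Reg X := ⟨hdim, fun x =>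
    VarietyA.RegSmoothSch.isRegularLocalRing_stalk_of_mem_smoothLocus (X ↘ Spec (CommRingCat.of k)) x
      (by rw [Scheme.Hom.smoothLocus_eq_top_iff.mpr inferInstance]; trivial)⟩
  obtain ⟨a, ha, h1⟩ := exists_class (cd k X hX) r hr
  obtain ⟨L, hL, hLa⟩ := exists_mk a.toMul
  refine ⟨L, hL, ?_, ?_⟩
  · have h2 : deg k X a.toMul = (r : ℤ) := ha
    rw [hLa, deg_mk k X hdim hL] at h2
    exact h2
  · have h2 : h k X 0 a.toMul = 1 := h1
    rw [hLa, h_mk] at h2
    exact h2

end K786.DegR
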