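import Groth.Agent.Curves.K786.NodeFibre
import Groth.Agent.Models.H74.CohMain

/-!
# The genus of a nodal curve and of its normalization

`Z` proper with at worst nodal singularities over an algebraically closed field, of dimension at most one,
`ν : Z' → Z` finite with `Z'` normal, an isomorphism over the dense open `U` whose preimage is dense. Then
`g(Z) + #π₀(Z') = g(Z') + #{nodes} + #π₀(Z)`.
-/

set_option autoImplicit false
universe u
open CategoryTheory CategoryTheory.Limits AlgebraicGeometry Opposite TopologicalSpace Module IsLocalRing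

namespace K786.NodeGenus

open Groth.Agent Groth.Agent.Models.H74 EvIdeal CohSeq CohLin K786.NodeFibre

variable (k : Type u) [Field k] [IsAlgClosed k] {Z Z' : Scheme.{u}} [Z.Over (Spec (CommRingCat.of k))]

section

variable [LocallyOfFiniteType (Z ↘ Spec (CommRingCat.of k))] [QuasiCompact (Z ↘ Spec (CommRingCat.of k))]
  (ν : Z' ⟶ Z) [IsFinite ν] (hZ' : Pi1.IsNormalScheme Z')
  (hdim : topologicalKrullDim Z ≤ 1) (hZ : Curv2.AtWorstNodal k Z)
  (U : Z.Opens) (hU : Dense (U : Set Z)) (hU' : Dense ((ν ⁻¹ᵁ U : Z'.Opens) : Set Z')) [IsIso (ν ∣_ U)]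

omit [LocallyOfFiniteType (Z ↘ Spec (CommRingCat.of k))] [QuasiCompact (Z ↘ Spec (CommRingCat.of k))]
  [IsAlgClosed k] [Z.Over (Spec (CommRingCat.of k))] [IsFinite ν] in
include ν hZ' hdim in
/-- A point over which `ν` is an isomorphism is regular. -/
theorem isRegular_of_mem [IsNoetherian Z] (z : Z) (hz : z ∈ U) : IsRegularLocalRing (Z.presheaf.stalk z) := by
  obtain ⟨y, hy⟩ := (ν ∣_ U).surjective ⟨z, hz⟩
  have hy' : ν y.1 = z := by
    have h1 := congrArg (Scheme.Opens.ι U) hy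
    rw [← Scheme.Hom.comp_apply, morphismRestrict_ι, Scheme.Hom.comp_apply] at h1
    exact h1
  have hiso : IsIso (ν.stalkMap y.1) := by
    have h1 : IsIso ((ν ∣_ U).stalkMap y) := inferInstance
    exact ((MorphismProperty.isomorphisms _).arrow_mk_iso_iff (morphismRestrictStalkMap ν U y)).1 h1
  obtain ⟨hd, hic⟩ := hZ' y.1
  subst hy'
  let e : Z.presheaf.stalk (ν y.1) ≃+* Z'.presheaf.stalk y.1 :=
    (asIso (ν.stalkMap y.1)).commRingCatIsoToRingEquiv
  have hd' : IsDomain (Z.presheaf.stalk (ν y.1)) := e.toMulEquiv.isDomain _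
  have hic' : IsIntegrallyClosed (Z.presheaf.stalk (ν y.1)) := IsIntegrallyClosed.of_equiv e.symm
  exact Groth.Agent.S2344.isRegular_of_normal _ ((CurvesB.DimPts.ringKrullDim_stalk_le _).trans hdim)

include hZ' hdim hZ hU hU' in
/-- The number of points over the complement of `U`. -/
theorem card_preimage : Nat.card (ν ⁻¹' (U : Set Z)ᶜ : Set Z') =
    Nat.card ((U : Set Z)ᶜ : Set Z) + Nat.card {x : Z // Curv2.IsNode k Z x} := by
  classical
  have hN : IsNoetherian Z := Models.H58.NodalGlueGeo.isNoetherian (Z ↘ Spec (CommRingCat.of k))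
  have hfS : ((U : Set Z)ᶜ).Finite := VarietyA.Dim1Top.finite_compl hdim U hU
  have hfT : (ν ⁻¹' (U : Set Z)ᶜ).Finite := ν.finite_preimage hfS
  have : Finite ((U : Set Z)ᶜ : Set Z) := hfS
  have : Fintype ((U : Set Z)ᶜ : Set Z) := Fintype.ofFinite _
  have : Finite (ν ⁻¹' (U : Set Z)ᶜ : Set Z') := hfT
  let g : (ν ⁻¹' (U : Set Z)ᶜ : Set Z') → ((U : Set Z)ᶜ : Set Z) := fun t => ⟨ν t.1, t.2⟩
  have h1 : Nat.card (ν ⁻¹' (U : Set Z)ᶜ : Set Z') = ∑ s : ((U : Set Z)ᶜ : Set Z), Nat.card {t // g t = s} := by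
    rw [← Nat.card_congr (Equiv.sigmaFiberEquiv g), Nat.card_sigma]
  have h2 : ∀ s : ((U : Set Z)ᶜ : Set Z), Nat.card {t // g t = s} = 1 + if Curv2.IsNode k Z s.1 then 1 else 0 := by
    intro s
    have h3 : Nat.card {t // g t = s} = (ν ⁻¹' {s.1}).ncard := by
      rw [← Nat.card_coe_set_eq]
      exact Nat.card_congr
        { toFun := fun t => ⟨t.1.1, congrArg Subtype.val t.2⟩
          invFun := fun t => ⟨⟨t.1, by
            have ht : ν t.1 = s.1 := t.2
            change ν t.1 ∈ (U : Set Z)ᶜ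
            rw [ht]; exact s.2⟩, Subtype.ext t.2⟩
          left_inv := fun t => rfl
          right_inv := fun t => rfl }
    rw [h3]
    have hc := Models.H58.NodalGlueGeo.isClosed_of_notMem hdim U hU s.1 s.2
    obtain ⟨hreg, hnode⟩ := card_fibre k ν hZ' hdim hZ U hU hU' s.1 s.2
    by_cases hs : Curv2.IsNode k Z s.1
    · rw [if_pos hs, hnode hs]
    · rw [if_neg hs, hreg (isRegular_of_smooth k s.1 ((hZ s.1 hc).resolve_right hs))]
  rw [h1, Finset.sum_congr rfl (fun s _ => h2 s), Finset.sum_add_distrib, Finset.sum_const, smul_eq_mul,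
    mul_one, Finset.card_univ, ← Nat.card_eq_fintype_card, Finset.sum_boole, Nat.cast_id]
  congr 1
  rw [← Fintype.card_subtype, ← Nat.card_eq_fintype_card]
  exact Nat.card_congr
    { toFun := fun s => ⟨s.1.1, s.2⟩
      invFun := fun x => ⟨⟨x.1, fun hx => not_isRegular_of_isNode k hdim x.1 x.2
        (isRegular_of_mem ν hZ' hdim U x.1 hx)⟩, x.2⟩
      left_inv := fun s => rfl
      right_inv := fun s => rfl }

end

section

variable [IsProper (Z ↘ Spec (CommRingCat.of k))]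
  (ν : Z' ⟶ Z) [IsFinite ν] (hZ' : Pi1.IsNormalScheme Z')
  (hdim : topologicalKrullDim Z ≤ 1) (hZ : Curv2.AtWorstNodal k Z)
  (U : Z.Opens) (hU : Dense (U : Set Z)) (hU' : Dense ((ν ⁻¹ᵁ U : Z'.Opens) : Set Z')) [IsIso (ν ∣_ U)]

include hZ' hdim hZ hU hU' in
/-- The genus formula for nodal curves. -/
theorem main :
    letI : Z'.Over (Spec (CommRingCat.of k)) := ⟨ν ≫ (Z ↘ (Spec (CommRingCat.of k)))⟩
    (Curv2.genus k Z : ℤ) + Nat.card (_root_.ConnectedComponents Z') =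
      (Curv2.genus k Z' : ℤ) + Nat.card {x : Z // Curv2.IsNode k Z x} +
        Nat.card (_root_.ConnectedComponents Z) := by
  let _ : Z'.Over (Spec (CommRingCat.of k)) := ⟨ν ≫ (Z ↘ (Spec (CommRingCat.of k)))⟩
  have : IsProper (Z' ↘ Spec (CommRingCat.of k)) := inferInstanceAs (IsProper (ν ≫ (Z ↘ (Spec (CommRingCat.of k)))))
  have hN : IsNoetherian Z := Models.H58.NodalGlueGeo.isNoetherian (Z ↘ Spec (CommRingCat.of k))
  have hZr : IsReduced Z := Groth.Agent.CurvesC.DualInvNodal.isReduced_of_atWorstNodal hZ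
  have hZ'r : IsReduced Z' := isReduced_of_isNormal hZ'
  obtain ⟨V, hV, hVU⟩ := CohSide.exists_affine (Z ↘ Spec (CommRingCat.of k)) hdim U hU
  obtain ⟨F, π, w, hs⟩ := exists_seq ν U hU
  obtain ⟨hfin, heu⟩ := CohSide.euler_relation k ν rfl hs hdim U hU
  obtain ⟨hf2, hrk⟩ := finrank_HH_zero k hs U V hV hVU
  rw [(H0Card.finite_and_finrank k (Z := Z')).2, (H0Card.finite_and_finrank k (Z := Z)).2, hrk] at heu
  have hfS : ((U : Set Z)ᶜ).Finite := VarietyA.Dim1Top.finite_compl hdim U hU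
  have hScl : ∀ s ∉ U, IsClosed ({s} : Set Z) := fun s hs =>
    Models.H58.NodalGlueGeo.isClosed_of_notMem hdim U hU s hs
  have hdom : IsDominant ν := Models.H58.NodalGlueGeo.isDominant ν U hU
  have hsurj : Surjective ν := by
    constructor
    have hcl : IsClosed (Set.range ν) := by
      rw [← Set.image_univ]
      exact ν.isClosedMap _ isClosed_univ
    intro z
    have hz : z ∈ closure (Set.range ν) := ν.denseRange z
    rwa [hcl.closure_eq] at hz
  have hfT : (ν ⁻¹' (U : Set Z)ᶜ).Finite := ν.finite_preimage hfS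
  have : Finite ((U : Set Z)ᶜ : Set Z) := hfS
  have : Finite (ν ⁻¹' (U : Set Z)ᶜ : Set Z') := hfT
  have hSV : ∀ s : Z, s ∉ U → s ∈ V := fun s hs => by
    have : s ∈ V ⊔ U := by rw [hVU]; trivial
    exact this.resolve_right hs
  have hTcl : ∀ t : Z', ν t ∉ U → IsClosed ({t} : Set Z') := fun t ht =>
    isClosed_singleton_of_finite ν t (hScl _ ht)
  let _ := algSec (Z ↘ Spec (CommRingCat.of k)) V
  let _ := algSec (ν ≫ (Z ↘ Spec (CommRingCat.of k))) (ν ⁻¹ᵁ V)
  let m : ((U : Set Z)ᶜ : Set Z) → Ideal Γ(Z, V) := fun s => evId V s.1 (hSV _ s.2)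
  let n : (ν ⁻¹' (U : Set Z)ᶜ : Set Z') → Ideal Γ(Z', ν ⁻¹ᵁ V) := fun t => evId (ν ⁻¹ᵁ V) t.1 (hSV _ t.2)
  have hcomap : ∀ t : (ν ⁻¹' (U : Set Z)ᶜ : Set Z'), (n t).comap (φ ν (Z ↘ Spec (CommRingCat.of k)) V) =
      m ⟨ν t.1, t.2⟩ := fun t => Ideal.ext fun a => app_mem_evId_iff ν V t.1 (hSV _ t.2) a
  have key := K786.NodeLoc.finrank_quotient_add_card (φ ν (Z ↘ Spec (CommRingCat.of k)) V) m n
    (fun s => isMaximal_evId (Z ↘ Spec (CommRingCat.of k)) _ _ _ (hScl _ s.2))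
    (fun t => isMaximal_evId (ν ≫ (Z ↘ Spec (CommRingCat.of k))) _ _ _ (hTcl _ t.2))
    (fun s x => by
      obtain ⟨x, rfl⟩ := Ideal.Quotient.mk_surjective x
      obtain ⟨c, hc⟩ := exists_sub_str_mem (Z ↘ Spec (CommRingCat.of k)) V s.1 (hSV _ s.2) (hScl _ s.2) x
      refine ⟨c, ?_⟩
      symm
      exact (Ideal.Quotient.mk_eq_mk_iff_sub_mem _ _).mpr hc)
    (fun t x => by
      obtain ⟨x, rfl⟩ := Ideal.Quotient.mk_surjective x
      obtain ⟨c, hc⟩ := exists_sub_str_mem (ν ≫ (Z ↘ Spec (CommRingCat.of k))) (ν ⁻¹ᵁ V) t.1 (hSV _ t.2) (hTcl _ t.2) x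
      refine ⟨c, ?_⟩
      symm
      exact (Ideal.Quotient.mk_eq_mk_iff_sub_mem _ _).mpr hc)
    (fun s s' h => Subtype.ext (evId_injective hV _ _ h))
    (fun t t' h => Subtype.ext (evId_injective (hV.preimage ν) _ _ h))
    (fun t => ⟨⟨ν t.1, t.2⟩, (hcomap t).ge⟩)
    (fun s => by
      obtain ⟨t, ht⟩ := ν.surjective s.1
      refine ⟨⟨t, ?_⟩, ?_⟩
      · change ν t ∈ (U : Set Z)ᶜ
        rw [ht]; exact s.2
      · rw [hcomap]
        have : (⟨ν t, by change ν t ∈ (U : Set Z)ᶜ; rw [ht]; exact s.2⟩ : ((U : Set Z)ᶜ : Set Z)) = s :=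
          Subtype.ext ht
        rw [this])
    (fun b hb => exists_app_eq k ν hZ' hdim hZ U hU V hV b fun y hy hyU => hb ⟨y, hyU⟩)
  have hcard := card_preimage k ν hZ' hdim hZ U hU hU'
  have h3 : finrank k (Γ(Z', ν ⁻¹ᵁ V) ⧸ LinearMap.range (φ ν (Z ↘ Spec (CommRingCat.of k)) V).toLinearMap) =
      Nat.card {x : Z // Curv2.IsNode k Z x} := by omega
  rw [h3] at heu
  omega

end

end K786.NodeGenus
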