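import Groth.Agent.EtCore.K301.NodeFibAlg
import Groth.Agent.Models.H74.CountAlg
import Groth.Agent.CalgA.RegBasic

/-!
# The fibre of the normalization over a seminormal Gorenstein point of a curve: algebra

* `rad_of_SN`: over a seminormal local ring, functions on a finite birational extension vanishing at all points over
  the closed point come (locally) from below; no integrality assumption.
* `unique_of_regular`, `two_of_not_regular`: number of primes over the maximal ideal.
* `finrank_quotient_add_card`: the equality case of the count of points.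
-/

set_option autoImplicit false
universe u

open IsLocalRing Module

namespace K786.NodeLoc

open Groth.Agent Groth.Agent.Models.H73.NodeLocal2 Groth.Agent.Models.H73.NodeLocal4
open Groth.Agent.Sga7.H598.SNDef Groth.Agent.Sga7.H598.Conduct

section Rad

variable {A₀ B₀ : Type u} [CommRing A₀] [CommRing B₀] [Algebra A₀ B₀] [Module.Finite A₀ B₀] [IsReduced B₀]

/-- A common denominator for a finite algebra which is an isomorphism locally at `P`. -/
theorem exists_common_denom (P : Ideal A₀) [hP : P.IsPrime]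
    (h : ∀ b : B₀, ∃ s : A₀, s ∉ P ∧ ∃ a : A₀, algebraMap A₀ B₀ a = algebraMap A₀ B₀ s * b) :
    ∃ s : A₀, s ∉ P ∧ ∀ b : B₀, ∃ a : A₀, algebraMap A₀ B₀ a = algebraMap A₀ B₀ s * b := by
  classical
  obtain ⟨S, hS⟩ := Module.Finite.fg_top (R := A₀) (M := B₀)
  choose s hs a ha using h
  refine ⟨∏ x ∈ S, s x, ?_, fun b => ?_⟩
  · rw [hP.prod_mem_iff]
    rintro ⟨x, -, hx⟩
    exact hs x hx
  · have hb : b ∈ Submodule.span A₀ (S : Set B₀) := by rw [hS]; trivial
    induction hb using Submodule.span_induction with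
    | mem y hy =>
      refine ⟨(∏ x ∈ S.erase y, s x) * a y, ?_⟩
      rw [← Finset.prod_erase_mul _ _ hy, map_mul, map_mul, ha y, mul_assoc]
    | zero => exact ⟨0, by rw [map_zero, mul_zero]⟩
    | add y z _ _ hy hz =>
      obtain ⟨c, hc⟩ := hy
      obtain ⟨d, hd⟩ := hz
      exact ⟨c + d, by rw [map_add, hc, hd, mul_add]⟩
    | smul r y _ hy =>
      obtain ⟨c, hc⟩ := hy
      exact ⟨r * c, by rw [map_mul, hc, Algebra.smul_def]; ring⟩

/-- Over a seminormal point `p`, functions upstairs vanishing at all points over `p` come locally from downstairs. -/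
theorem rad_of_SN (p : Ideal A₀) [hp : p.IsMaximal] (hinj : Function.Injective (algebraMap A₀ B₀))
    (hSN : SN (Localization.AtPrime p))
    (hgood : ∀ P : Ideal A₀, P.IsPrime → P ≤ p → P ≠ p → ∀ b : B₀, ∃ s : A₀, s ∉ P ∧
      ∃ a : A₀, algebraMap A₀ B₀ a = algebraMap A₀ B₀ s * b)
    (b : B₀) (hb : ∀ q : Ideal B₀, q.IsPrime → q.comap (algebraMap A₀ B₀) = p → b ∈ q) :
    ∃ (a : A₀) (s : A₀), s ∉ p ∧ algebraMap A₀ B₀ s * b = algebraMap A₀ B₀ a := by
  let O := Localization.AtPrime p
  let A := Localization (Algebra.algebraMapSubmonoid B₀ p.primeCompl)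
  let _ : Algebra O A := localizationAlgebra p.primeCompl B₀
  have : IsScalarTower A₀ O A := isScalarTower_localizationAlgebra p.primeCompl B₀
  have : Module.Finite O A := Module.Finite.of_isLocalization A₀ B₀ p.primeCompl
  have hinjOA : Function.Injective (algebraMap O A) := Models.H58.MCLoc.injective_of p hinj
  have hrA : IsReduced A := isReduced_localizationPreserves
    (Algebra.algebraMapSubmonoid B₀ p.primeCompl) A inferInstance
  have hrad := isRadical_cond (R := O) (B := A) hinjOA hSN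
  have h1 : algebraMap B₀ A b ∈ (cond O A).radical := by
    rw [Ideal.radical_eq_sInf, Ideal.mem_sInf]
    rintro P ⟨hP1, hP2⟩
    have hPp : (P.comap (algebraMap B₀ A)).comap (algebraMap A₀ B₀) ≤ p := by
      intro x hx
      by_contra hxp
      rw [Ideal.mem_comap, Ideal.mem_comap] at hx
      apply hP2.ne_top
      apply Ideal.eq_top_of_isUnit_mem _ hx
      exact IsLocalization.map_units A
        (⟨algebraMap A₀ B₀ x, ⟨x, hxp, rfl⟩⟩ : Algebra.algebraMapSubmonoid B₀ p.primeCompl)
    have hPpr : ((P.comap (algebraMap B₀ A)).comap (algebraMap A₀ B₀)).IsPrime := by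
      have : (P.comap (algebraMap B₀ A)).IsPrime := Ideal.comap_isPrime _ _
      exact Ideal.comap_isPrime _ _
    by_cases he : (P.comap (algebraMap B₀ A)).comap (algebraMap A₀ B₀) = p
    · exact hb _ (Ideal.comap_isPrime _ _) he
    · exfalso
      obtain ⟨s, hs, hs'⟩ := exists_common_denom _ (hgood _ hPpr hPp he)
      apply hs
      rw [Ideal.mem_comap, Ideal.mem_comap]
      apply hP1
      intro t
      obtain ⟨c, r, hr, hc⟩ := Models.H58.MCLoc.exists_frac (B₀ := B₀) p t
      obtain ⟨a, ha⟩ := hs' c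
      obtain ⟨r', hr'⟩ := Models.H58.MCLoc.exists_inv (O := O) p hr
      have hr'' : algebraMap O A r' * algebraMap A₀ A r = 1 := by
        rw [IsScalarTower.algebraMap_apply A₀ O A, ← map_mul, hr', map_one]
      refine ⟨r' * algebraMap A₀ O a, ?_⟩
      rw [map_mul, ← IsScalarTower.algebraMap_apply A₀ O A, IsScalarTower.algebraMap_apply A₀ B₀ A, ha,
        map_mul, ← hc]
      linear_combination (algebraMap B₀ A (algebraMap A₀ B₀ s) * t) * hr''
  rw [hrad.radical] at h1
  obtain ⟨o, ho⟩ := h1 1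
  rw [mul_one] at ho
  obtain ⟨⟨a, s⟩, hs⟩ := IsLocalization.surj (M := p.primeCompl) o
  have h2 : algebraMap B₀ A (algebraMap A₀ B₀ s.1 * b) = algebraMap B₀ A (algebraMap A₀ B₀ a) := by
    have h3 := congrArg (algebraMap O A) hs
    rw [map_mul, ho, ← IsScalarTower.algebraMap_apply A₀ O A,
      ← IsScalarTower.algebraMap_apply A₀ O A, IsScalarTower.algebraMap_apply A₀ B₀ A,
      IsScalarTower.algebraMap_apply A₀ B₀ A] at h3
    rw [map_mul, mul_comm]
    exact h3
  rw [IsLocalization.eq_iff_exists (Algebra.algebraMapSubmonoid B₀ p.primeCompl)] at h2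
  obtain ⟨⟨_, t, ht, rfl⟩, ht'⟩ := h2
  refine ⟨t * a, t * s.1, ?_, ?_⟩
  · intro h
    rcases hp.isPrime.mem_or_mem h with h | h
    · exact ht h
    · exact s.2 h
  · rw [map_mul, map_mul, mul_assoc]
    exact ht'

end Rad

section Points

variable {O A : Type u} [CommRing O] [CommRing A] [IsLocalRing O] [Algebra O A]

/-- If the base is regular (of dimension at most one) the multicross is trivial. -/
theorem surjective_of_regular [IsNoetherianRing O] [Module.Finite O A] (h : MC O A)
    (hO : IsRegularLocalRing O) (hdim : ringKrullDim O ≤ 1) : Function.Surjective (algebraMap O A) := by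
  have : IsNoetherianRing A := IsNoetherianRing.of_finite O A
  obtain ⟨f, hf, hfA⟩ := Models.H58.MCLoc.exists_regular h
  have hd : IsDomain O := CalgA.RegBasic.isDomain _
  obtain ⟨P₀, hP₀⟩ := h.exists_max
  have hnt : Nontrivial A := ⟨⟨0, 1, fun h01 => hP₀.ne_top (by
    rw [Ideal.eq_top_iff_one, ← h01]; exact P₀.zero_mem)⟩⟩
  have hf0 : f ≠ 0 := by
    rintro rfl
    exact one_ne_zero (hfA 1 (zero_smul _ _))
  obtain ⟨t, ht⟩ : ∃ t : O, maximalIdeal O = Ideal.span {t} := by
    have h1 : (1 : WithBot ℕ∞) ≤ ringKrullDim O := by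
      by_contra hlt
      have h2 : ringKrullDim O ≤ 0 := by
        have h3 : ringKrullDim O < ((0 : ℕ) : WithBot ℕ∞) + 1 := by
          rw [Nat.cast_zero, zero_add]
          exact not_le.1 hlt
        exact ENat.WithBot.lt_add_one_iff.1 h3
      have : Ring.KrullDimLE 0 O := Ring.krullDimLE_iff.2 h2
      have h4 : IsField O := Ring.KrullDimLE.isField_of_isDomain
      apply hf0
      have h5 := IsLocalRing.isField_iff_maximalIdeal_eq.1 h4
      rw [h5] at hf
      exact hf
    have := VarietyA.SmoothReg.isDiscreteValuationRing_of_isRegularLocalRing O (le_antisymm hdim h1)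
    obtain ⟨t, ht⟩ := (IsPrincipalIdealRing.principal (maximalIdeal O)).principal
    exact ⟨t, ht⟩
  have htm : t ∈ maximalIdeal O := by rw [ht]; exact Ideal.mem_span_singleton_self t
  have htA : ∀ a : A, t • a = 0 → a = 0 := by
    intro a ha
    rw [ht, Ideal.mem_span_singleton'] at hf
    obtain ⟨g, hg⟩ := hf
    apply hfA
    rw [← hg, mul_smul, ha, smul_zero]
  intro a
  obtain ⟨o, ho⟩ := h.rad (t • a) (by
    intro P hP
    rw [Algebra.smul_def]
    exact Ideal.mul_mem_right _ _ ((h.mem_iff hP).2 htm))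
  have hom : o ∈ maximalIdeal O := by
    rw [← h.mem_iff hP₀, ho, Algebra.smul_def]
    exact Ideal.mul_mem_right _ _ ((h.mem_iff hP₀).2 htm)
  rw [ht, Ideal.mem_span_singleton'] at hom
  obtain ⟨o', ho'⟩ := hom
  refine ⟨o', ?_⟩
  rw [← sub_eq_zero]
  apply htA
  rw [smul_sub, ← ho, ← ho', Algebra.smul_def, map_mul, mul_comm, sub_self]

/-- If the base is regular there is exactly one maximal ideal upstairs. -/
theorem unique_max [IsNoetherianRing O] [Module.Finite O A] (h : MC O A)
    (hO : IsRegularLocalRing O) (hdim : ringKrullDim O ≤ 1) :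
    ∃ P : Ideal A, P.IsMaximal ∧ ∀ Q : Ideal A, Q.IsMaximal → Q = P := by
  have hs := surjective_of_regular h hO hdim
  obtain ⟨P, hP⟩ := h.exists_max
  refine ⟨P, hP, fun Q hQ => ?_⟩
  apply Ideal.comap_injective_of_surjective _ hs
  rw [h.comap P hP, h.comap Q hQ]

/-- If the base is Gorenstein and not regular there are exactly two maximal ideals upstairs. -/
theorem two_max [IsNoetherianRing O] [Module.Finite O A] (h : MC O A)
    (hO : ¬ IsRegularLocalRing O) (hG : LocCoh.IsGorensteinLocalRing O) (hdim : ringKrullDim O ≤ 1) :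
    ∃ P Q : Ideal A, P.IsMaximal ∧ Q.IsMaximal ∧ P ≠ Q ∧ ∀ N : Ideal A, N.IsMaximal → N = P ∨ N = Q := by
  have : IsNoetherianRing A := IsNoetherianRing.of_finite O A
  obtain ⟨f, hf, hfA⟩ := Models.H58.MCLoc.exists_regular h
  obtain ⟨P, Q, -, hP, hQ, hall, hPQ, -⟩ := h.exists_two hG hdim hf hfA
    (fun hs => hO (regular_of_surjective h hs))
  exact ⟨P, Q, hP, hQ, hPQ, hall⟩

end Points

section Primes

variable {A₀ B₀ O : Type u} [CommRing A₀] [CommRing B₀] [CommRing O] [IsLocalRing O]
    [IsNoetherianRing A₀] [IsNoetherianRing O] [Algebra A₀ B₀] [Module.Finite A₀ B₀] [Algebra A₀ O] [IsReduced B₀]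
    (p : Ideal A₀) [hp : p.IsMaximal] [IsLocalization.AtPrime O p]
    (hinj : Function.Injective (algebraMap A₀ B₀))
    (hres : ∀ q : Ideal B₀, q.IsPrime → q.comap (algebraMap A₀ B₀) = p → ∀ b : B₀, ∃ a : A₀,
      b - algebraMap A₀ B₀ a ∈ q)
    (hgood : ∀ P : Ideal A₀, P.IsPrime → P ≤ p → P ≠ p → ∀ b : B₀, ∃ s : A₀, s ∉ P ∧
      ∃ a : A₀, algebraMap A₀ B₀ a = algebraMap A₀ B₀ s * b)
    (hdvr : ∀ (q : Ideal B₀) (_ : q.IsPrime), q.comap (algebraMap A₀ B₀) = p →
      ∃ (_ : IsDomain (Localization.AtPrime q)), IsDiscreteValuationRing (Localization.AtPrime q))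
    (hdim : ringKrullDim O ≤ 1) (hSN : SN O)

include hinj hres hgood hdvr hdim hSN in
/-- Number of primes over a seminormal point: one if the point is regular, two if it is Gorenstein but not
regular. -/
theorem primes :
    (IsRegularLocalRing O → ∃ q : Ideal B₀, q.IsPrime ∧ q.comap (algebraMap A₀ B₀) = p ∧
      ∀ q' : Ideal B₀, q'.IsPrime → q'.comap (algebraMap A₀ B₀) = p → q' = q) ∧
    (¬ IsRegularLocalRing O → LocCoh.IsGorensteinLocalRing O →
      ∃ q₁ q₂ : Ideal B₀, q₁.IsPrime ∧ q₂.IsPrime ∧ q₁.comap (algebraMap A₀ B₀) = p ∧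
      q₂.comap (algebraMap A₀ B₀) = p ∧ q₁ ≠ q₂ ∧
      ∀ q : Ideal B₀, q.IsPrime → q.comap (algebraMap A₀ B₀) = p → q = q₁ ∨ q = q₂) := by
  let A := Localization (Algebra.algebraMapSubmonoid B₀ p.primeCompl)
  let _ : Algebra O A := localizationAlgebra p.primeCompl B₀
  have : IsScalarTower A₀ O A := isScalarTower_localizationAlgebra p.primeCompl B₀
  have : Module.Finite O A := Module.Finite.of_isLocalization A₀ B₀ p.primeCompl
  have hSN' : SN (Localization.AtPrime p) :=
    hSN.of_ringEquiv (IsLocalization.algEquiv p.primeCompl O (Localization.AtPrime p)).toRingEquiv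
  have h : MC O A := Models.H58.MCLoc.mc_of (O := O) (A := A) p hinj hres
    (fun b hb => by
      obtain ⟨a, s, hs, h⟩ := rad_of_SN p hinj hSN' hgood b hb
      exact ⟨a, s, hs, h⟩) hdvr
  have hcomap : ∀ P : Ideal A, P.IsMaximal →
      (P.comap (algebraMap B₀ A)).comap (algebraMap A₀ B₀) = p := fun P hP =>
    Models.H58.MCLoc.comap_comap_max (O := O) p P (Models.H58.MCLoc.comap_max p P hP)
  have hmc : ∀ P : Ideal A, (P.comap (algebraMap B₀ A)).map (algebraMap B₀ A) = P := fun P =>
    IsLocalization.map_comap (Algebra.algebraMapSubmonoid B₀ p.primeCompl) A P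
  have hback : ∀ q : Ideal B₀, q.IsPrime → q.comap (algebraMap A₀ B₀) = p →
      ∃ P : Ideal A, P.IsMaximal ∧ P.comap (algebraMap B₀ A) = q := by
    intro q hq hqp
    have hdisj : Disjoint (Algebra.algebraMapSubmonoid B₀ p.primeCompl : Set B₀) q := by
      rw [Set.disjoint_left]
      rintro _ ⟨x, hx, rfl⟩ hxq
      apply hx
      rw [← hqp]
      exact hxq
    have hP' := IsLocalization.isPrime_of_isPrime_disjoint _ A q hq hdisj
    have hPc : Ideal.comap (algebraMap B₀ A) (Ideal.map (algebraMap B₀ A) q) = q :=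
      IsLocalization.under_map_of_isPrime_disjoint
        (Algebra.algebraMapSubmonoid B₀ p.primeCompl) A hq hdisj
    have hPO : (q.map (algebraMap B₀ A)).comap (algebraMap O A) = maximalIdeal O := by
      apply le_antisymm
      · exact IsLocalRing.le_maximalIdeal (Ideal.comap_isPrime _ _).ne_top
      · rw [← IsLocalization.AtPrime.map_eq_maximalIdeal p O, Ideal.map_le_iff_le_comap]
        intro x hx
        rw [Ideal.mem_comap, Ideal.mem_comap, ← IsScalarTower.algebraMap_apply A₀ O A,
          IsScalarTower.algebraMap_apply A₀ B₀ A]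
        apply Ideal.mem_map_of_mem
        rw [← hqp] at hx
        exact hx
    exact ⟨q.map (algebraMap B₀ A),
      Ideal.isMaximal_of_isIntegral_of_isMaximal_comap _ (by rw [hPO]; infer_instance), hPc⟩
  constructor
  · intro hO
    obtain ⟨P, hP, hall⟩ := unique_max h hO hdim
    refine ⟨P.comap (algebraMap B₀ A), Ideal.comap_isPrime _ _, hcomap P hP, fun q' hq' hqp => ?_⟩
    obtain ⟨Q, hQ, rfl⟩ := hback q' hq' hqp
    rw [hall Q hQ]
  · intro hO hG
    obtain ⟨P, Q, hP, hQ, hPQ, hall⟩ := two_max h hO hG hdim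
    refine ⟨P.comap (algebraMap B₀ A), Q.comap (algebraMap B₀ A), Ideal.comap_isPrime _ _,
      Ideal.comap_isPrime _ _, hcomap P hP, hcomap Q hQ, ?_, ?_⟩
    · intro e
      apply hPQ
      rw [← hmc P, e, hmc Q]
    · intro q hq hqp
      obtain ⟨N, hN, rfl⟩ := hback q hq hqp
      rcases hall N hN with e | e
      · left; rw [e]
      · right; rw [e]

end Primes

section Count

variable {k A B : Type*} [Field k] [CommRing A] [Algebra k A] [CommRing B] [Algebra k B]

/-- The equality case of the count: if all elements vanishing at all the points upstairs come from below. -/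
theorem finrank_quotient_add_card (φ : A →ₐ[k] B) {S T : Type*} [Finite S] [Finite T]
    (m : S → Ideal A) (n : T → Ideal B) (hm : ∀ s, (m s).IsMaximal) (hn : ∀ t, (n t).IsMaximal)
    (hkm : ∀ s, Function.Surjective (algebraMap k (A ⧸ m s)))
    (hkn : ∀ t, Function.Surjective (algebraMap k (B ⧸ n t)))
    (hminj : Function.Injective m) (hninj : Function.Injective n)
    (hmn : ∀ t, ∃ s, m s ≤ (n t).comap φ) (hnm : ∀ s, ∃ t, (n t).comap φ ≤ m s)
    (hJ : ∀ b : B, (∀ t, b ∈ n t) → ∃ a : A, φ a = b) :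
    finrank k (B ⧸ LinearMap.range φ.toLinearMap) + Nat.card S = Nat.card T := by
  classical
  let I : Ideal A := ⨅ s, m s
  let J : Ideal B := ⨅ t, n t
  have hIJ : J.comap φ = I := by
    apply le_antisymm
    · intro a ha
      rw [Ideal.mem_iInf]
      intro s
      obtain ⟨t, ht⟩ := hnm s
      exact ht ((Ideal.mem_iInf.mp ha) t)
    · intro a ha
      rw [Ideal.mem_comap, Ideal.mem_iInf]
      intro t
      obtain ⟨s, hs⟩ := hmn t
      exact hs (Ideal.mem_iInf.mp ha s)
  obtain ⟨hfI, -⟩ := Groth.Agent.Models.H74.CountAlg.finite_quotient_iInf m hkm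
  obtain ⟨hfJ, -⟩ := Groth.Agent.Models.H74.CountAlg.finite_quotient_iInf n hkn
  have hcI : finrank k (A ⧸ I) = Nat.card S :=
    Groth.Agent.Models.H74.CountAlg.finrank_quotient_iInf m hm hkm hminj
  have hcJ : finrank k (B ⧸ J) = Nat.card T :=
    Groth.Agent.Models.H74.CountAlg.finrank_quotient_iInf n hn hkn hninj
  let ψ : (A ⧸ I) →ₗ[k] (B ⧸ J) := (Ideal.quotientMapₐ J φ hIJ.ge).toLinearMap
  have hψ : ∀ a : A, ψ (Ideal.Quotient.mk I a) = Ideal.Quotient.mk J (φ a) := fun a => rfl
  have hψinj : Function.Injective ψ := by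
    rw [injective_iff_map_eq_zero]
    intro x hx
    obtain ⟨a, rfl⟩ := Ideal.Quotient.mk_surjective x
    rw [hψ, Ideal.Quotient.eq_zero_iff_mem, ← Ideal.mem_comap] at hx
    rw [Ideal.Quotient.eq_zero_iff_mem, ← hIJ]
    exact hx
  let π₀ : B →ₗ[k] (B ⧸ J) ⧸ LinearMap.range ψ :=
    (LinearMap.range ψ).mkQ.comp (Ideal.Quotient.mkₐ k J).toLinearMap
  have hπ₀ : ∀ b, π₀ b = (LinearMap.range ψ).mkQ (Ideal.Quotient.mk J b) := fun b => rfl
  have hker : LinearMap.range φ.toLinearMap = LinearMap.ker π₀ := by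
    apply le_antisymm
    · rintro _ ⟨a, rfl⟩
      rw [LinearMap.mem_ker, hπ₀]
      rw [Submodule.mkQ_apply, Submodule.Quotient.mk_eq_zero]
      exact ⟨Ideal.Quotient.mk I a, hψ a⟩
    · intro b hb
      rw [LinearMap.mem_ker, hπ₀, Submodule.mkQ_apply, Submodule.Quotient.mk_eq_zero] at hb
      obtain ⟨x, hx⟩ := hb
      obtain ⟨a, rfl⟩ := Ideal.Quotient.mk_surjective x
      rw [hψ, eq_comm, Ideal.Quotient.eq, Ideal.mem_iInf] at hx
      obtain ⟨c, hc⟩ := hJ _ hx
      refine ⟨a + c, ?_⟩
      change φ (a + c) = b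
      rw [map_add, hc]
      ring
  have hsurj : Function.Surjective π₀ := by
    intro r
    obtain ⟨r, rfl⟩ := Submodule.mkQ_surjective _ r
    obtain ⟨b, rfl⟩ := Ideal.Quotient.mk_surjective r
    exact ⟨b, rfl⟩
  have e : (B ⧸ LinearMap.range φ.toLinearMap) ≃ₗ[k] (B ⧸ J) ⧸ LinearMap.range ψ :=
    (Submodule.quotEquivOfEq _ _ hker).trans (π₀.quotKerEquivOfSurjective hsurj)
  have h1 : finrank k ((B ⧸ J) ⧸ LinearMap.range ψ) + finrank k (LinearMap.range ψ) = finrank k (B ⧸ J) :=
    Submodule.finrank_quotient_add_finrank _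
  have h2 : finrank k (LinearMap.range ψ) = finrank k (A ⧸ I) := LinearMap.finrank_range_of_inj hψinj
  rw [e.finrank_eq, ← hcI, ← hcJ, ← h2, h1]

end Count

end K786.NodeLoc
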